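import Groth.Agent.FreeSecR1Lib.Main
import Groth.Agent.FlatClosureLib.Main

/-!
# Pasting base change maps
-/

set_option autoImplicit false
set_option linter.all false
set_option backward.isDefEq.respectTransparency false
set_option backward.isDefEq.respectTransparency.types false

universe u

open CategoryTheory CategoryTheory.Limits AlgebraicGeometry TopologicalSpace Opposite
open Groth.Agent

noncomputable section

namespace FreeSecBCLib

open KFlatLib (pb pf)

/-- Two restrictions make one. -/
theorem res_res {Z : Scheme.{u}} (M : Z.Modules) {A B C : (Z.Opens)ᵒᵖ} (a : A ⟶ B) (b : B ⟶ C) (c : A ⟶ C)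
    (x : M.presheaf.obj A) : M.presheaf.map b (M.presheaf.map a x) = M.presheaf.map c x := by
  rw [← ConcreteCategory.comp_apply, ← Functor.map_comp, Subsingleton.elim (a ≫ b) c]

section BC

variable {X X' S S' : Scheme.{u}} {g : S' ⟶ S} {g' : X' ⟶ X} {f : X ⟶ S} {f' : X' ⟶ S'}

/-- The base change map. -/
def bc (w : g' ≫ f = f' ≫ g) (M : X.Modules) : pb g (pf f M) ⟶ pf f' (pb g' M) :=
  ((Scheme.Modules.pullbackPushforwardAdjunction g).homEquiv _ _).symm (RpushLib.bcAdj w M)

theorem bc_natural (w : g' ≫ f = f' ≫ g) {M N : X.Modules} (φ : M ⟶ N) :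
    (Scheme.Modules.pullback g).map ((Scheme.Modules.pushforward f).map φ) ≫ bc w N =
      bc w M ≫ (Scheme.Modules.pushforward f').map ((Scheme.Modules.pullback g').map φ) := by
  simp only [bc]
  rw [← Adjunction.homEquiv_naturality_left_symm, ← Adjunction.homEquiv_naturality_right_symm]
  congr 1
  let e := (Scheme.Modules.pushforwardComp g' f ≪≫ Scheme.Modules.pushforwardCongr w ≪≫
      (Scheme.Modules.pushforwardComp f' g).symm)
  simp only [RpushLib.bcAdj, Category.assoc]
  rw [← Functor.map_comp_assoc]
  have hn := (Scheme.Modules.pullbackPushforwardAdjunction g').unit.naturality φ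
  simp only [Functor.id_map, Functor.comp_map] at hn
  erw [hn]
  rw [Functor.map_comp_assoc]
  exact congrArg _ (e.hom.naturality ((Scheme.Modules.pullback g').map φ))

theorem isIso_bc_affine (H : IsPullback g' f' f g) [IsAffineHom f] (M : X.Modules) [Coh.IsQCoh M] :
    IsIso (bc H.w M) :=
  haveI := QCohLib.isQCoh_pushforward f M
  RpushLib.isIso_bcMap_of H M fun _ _ hUS hUT hg => RpushLib.bijective_bc_affine H M hUS hUT hg

theorem isIso_bc_flat (H : IsPullback g' f' f g) [QuasiCompact f] [QuasiSeparated f] [Flat g]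
    (M : X.Modules) [Coh.IsQCoh M] : IsIso (bc H.w M) := by
  haveI := QCohLib.isQCoh_pushforward f M
  haveI : EnoughInjectives X.Modules := IsGrothendieckAbelian.enoughInjectives.{u}
  haveI : EnoughInjectives X'.Modules := IsGrothendieckAbelian.enoughInjectives.{u}
  haveI : HasInjectiveResolutions X.Modules := inferInstance
  haveI : HasInjectiveResolutions X'.Modules := inferInstance
  exact RpushLib.isIso_bcMap_of H M fun _ _ hUS hUT hg => RpushLib.bijective_bc_zero H M hUS hUT hg

variable {Z Z' : Scheme.{u}} {i : Z ⟶ X} {i' : Z' ⟶ X'} {g'' : Z' ⟶ Z}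

/-- Pasting of base change maps. -/
theorem bcAdj_paste (w : g' ≫ f = f' ≫ g) (w' : g'' ≫ i = i' ≫ g')
    (w'' : g'' ≫ i ≫ f = (i' ≫ f') ≫ g) (G : Z.Modules) :
    RpushLib.bcAdj w (pf i G) ≫ (Scheme.Modules.pushforward g).map
        ((Scheme.Modules.pushforward f').map (bc w' G) ≫ (Scheme.Modules.pushforwardComp i' f').hom.app _) =
      (Scheme.Modules.pushforwardComp i f).hom.app G ≫ RpushLib.bcAdj w'' G := by
  have h1 : (Scheme.Modules.pullbackPushforwardAdjunction g').unit.app (pf i G) ≫
      (Scheme.Modules.pushforward g').map (bc w' G) = RpushLib.bcAdj w' G := by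
    exact ((Scheme.Modules.pullbackPushforwardAdjunction g').homEquiv_unit _ _ _).symm.trans (Equiv.apply_symm_apply _ _)
  let e := (Scheme.Modules.pushforwardComp g' f ≪≫ Scheme.Modules.pushforwardCongr w ≪≫
      (Scheme.Modules.pushforwardComp f' g).symm)
  rw [RpushLib.bcAdj, Category.assoc, Functor.map_comp]
  have h2 := e.hom.naturality_assoc (bc w' G)
    ((Scheme.Modules.pushforward g).map ((Scheme.Modules.pushforwardComp i' f').hom.app (pb g'' G)))
  simp only [Functor.comp_map] at h2
  erw [← h2]
  rw [← Functor.map_comp_assoc]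
  erw [h1]
  simp only [RpushLib.bcAdj, e]
  ext U s
  all_goals simp
  all_goals exact res_res (pb g'' G) _ _ _ _

theorem isIso_bc_pushforward (H : IsPullback g' f' f g) (H' : IsPullback g'' i' i g') [IsAffineHom i]
    [IsAffineHom (i ≫ f)] (G : Z.Modules) [Coh.IsQCoh G] : IsIso (bc H.w (pf i G)) := by
  have H'' : IsPullback g'' (i' ≫ f') (i ≫ f) g := H'.paste_vert H
  haveI := isIso_bc_affine H' G
  haveI := isIso_bc_affine H'' G
  let A := Scheme.Modules.pullbackPushforwardAdjunction g
  have h : bc H.w (pf i G) ≫ (Scheme.Modules.pushforward f').map (bc H'.w G) ≫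
      (Scheme.Modules.pushforwardComp i' f').hom.app (pb g'' G) =
      (Scheme.Modules.pullback g).map ((Scheme.Modules.pushforwardComp i f).hom.app G) ≫ bc H''.w G := by
    apply (A.homEquiv _ _).injective
    refine (A.homEquiv_naturality_right (bc H.w (pf i G)) _).trans ?_
    refine Eq.trans ?_ (A.homEquiv_naturality_left _ (bc H''.w G)).symm
    simp only [bc, A, Equiv.apply_symm_apply]
    exact bcAdj_paste H.w H'.w H''.w G
  exact IsIso.of_isIso_fac_right h

end BC

end FreeSecBCLib
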