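import Groth.Agent.FreeSecR1Lib.Main
import Groth.Agent.FreeSecBCLib.Base
import Groth.Agent.FlatClosureLib.Main

/-!
# Base change for the restriction to a divisor
-/

set_option autoImplicit false
set_option linter.all false
set_option backward.isDefEq.respectTransparency false
set_option backward.isDefEq.respectTransparency.types false
set_option maxHeartbeats 300000

universe u

open CategoryTheory CategoryTheory.Limits AlgebraicGeometry TopologicalSpace Opposite
open Groth.Agent

noncomputable section

namespace FreeSecBCLib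

open KFlatLib (pb pf)


/-- A module killed by a faithfully flat pullback is zero. -/
theorem isZero_of_faithfullyFlat {T T' : Scheme.{u}} (u : T' ⟶ T) [Flat u] [Surjective u] {C : T.Modules}
    (h : IsZero (pb u C)) : IsZero C := by
  refine DevissLib.isZero_of_support_empty (Set.eq_empty_of_forall_notMem fun y hy => ?_)
  obtain ⟨z, rfl⟩ := u.surjective y
  let σ := (u.stalkMap z).hom
  have h2 : IsZero ((ModuleCat.extendScalars.{u, u, u} σ).obj ((DerSch.stalkFunctor T (u z)).obj C)) :=
    ((DerSch.stalkFunctor _ z).map_isZero h).of_iso ((KFlatLib.stalkPullIso u z).app C).symm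
  letI := σ.toAlgebra
  haveI : Module.Flat (T.presheaf.stalk (u z)) (T'.presheaf.stalk z) := Flat.stalkMap u z
  haveI : IsLocalHom (algebraMap (T.presheaf.stalk (u z)) (T'.presheaf.stalk z)) :=
    inferInstanceAs (IsLocalHom σ)
  haveI : Module.FaithfullyFlat (T.presheaf.stalk (u z)) (T'.presheaf.stalk z) :=
    Module.FaithfullyFlat.of_flat_of_isLocalHom
  haveI : Subsingleton (TensorProduct (T.presheaf.stalk (u z)) (T'.presheaf.stalk z)
      ((DerSch.stalkFunctor T (u z)).obj C)) := ModuleCat.subsingleton_of_isZero h2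
  exact hy (Module.FaithfullyFlat.lTensor_reflects_triviality (T.presheaf.stalk (u z))
      (T'.presheaf.stalk z) ((DerSch.stalkFunctor T (u z)).obj C))

section General

variable {X X' S S' : Scheme.{u}} {g : S' ⟶ S} {g' : X' ⟶ X} {f : X ⟶ S} {f' : X' ⟶ S'}

theorem epi_baseChange' (w : g' ≫ f = f' ≫ g) {M N : X.Modules} (φ : M ⟶ N) [IsIso (bc w N)]
    (h : Epi ((Scheme.Modules.pushforward f).map φ)) :
    Epi ((Scheme.Modules.pushforward f').map ((Scheme.Modules.pullback g').map φ)) := by
  haveI : PreservesFiniteColimits (Scheme.Modules.pullback g) :=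
    haveI : PreservesColimitsOfSize.{0, 0} (Scheme.Modules.pullback g) :=
      (Scheme.Modules.pullbackPushforwardAdjunction g).leftAdjoint_preservesColimits
    inferInstance
  exact epi_of_epi_fac (bc_natural w φ).symm

theorem epi_descent' (w : g' ≫ f = f' ≫ g) [Flat g] [Surjective g] {M N : X.Modules} (φ : M ⟶ N)
    [IsIso (bc w N)] [IsIso (bc w M)]
    (h : Epi ((Scheme.Modules.pushforward f').map ((Scheme.Modules.pullback g').map φ))) :
    Epi ((Scheme.Modules.pushforward f).map φ) := by
  haveI : PreservesFiniteColimits (Scheme.Modules.pullback g) :=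
    haveI : PreservesColimitsOfSize.{0, 0} (Scheme.Modules.pullback g) :=
      (Scheme.Modules.pullbackPushforwardAdjunction g).leftAdjoint_preservesColimits
    inferInstance
  let r := (Scheme.Modules.pushforward f).map φ
  haveI : Epi ((Scheme.Modules.pullback g).map r) := by
    have e := bc_natural w φ
    rw [← IsIso.eq_comp_inv] at e
    rw [e]
    infer_instance
  refine Preadditive.epi_of_isZero_cokernel _ (isZero_of_faithfullyFlat g ?_)
  exact (isZero_cokernel_of_epi ((Scheme.Modules.pullback g).map r)).of_iso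
    (PreservesCokernel.iso (Scheme.Modules.pullback g) r)

end General

variable {k : Type u} [Field k] {C T : Scheme.{u}} [C.Over (Spec (CommRingCat.of k))]
  [T.Over (Spec (CommRingCat.of k))]

local notation "tT" => T ↘ (Spec (CommRingCat.of k))
local notation "cC" => C ↘ (Spec (CommRingCat.of k))
local notation "prT" => pullback.fst tT cC
local notation "prC" => pullback.snd tT cC

variable [IsProper (C ↘ (Spec (CommRingCat.of k)))]

variable {T' : Scheme.{u}} (u : T' ⟶ T)

abbrev vmap : pullback (u ≫ tT) cC ⟶ pullback tT cC :=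
  pullback.map (u ≫ tT) cC tT cC u (𝟙 C) (𝟙 (Spec (CommRingCat.of k))) (Category.comp_id _)
    ((Category.comp_id _).trans (Category.id_comp _).symm)

theorem isPullback_vmap : IsPullback (vmap (k := k) (C := C) u) (pullback.fst (u ≫ tT) cC) prT u := by
  refine IsPullback.of_right ?_ (pullback.lift_fst _ _ _) (IsPullback.of_hasPullback tT cC).flip
  simpa [vmap] using (IsPullback.of_hasPullback (u ≫ tT) cC).flip

/-- The restriction maps to a divisor, before and after base change. -/
def twistIso (F : (pullback tT cC).Modules) (M : C.Modules) :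
    pb (vmap (k := k) u) (CohB1.tensorMod F (pb prC M)) ≅
      CohB1.tensorMod (pb (vmap (k := k) u) F) (pb (pullback.snd (u ≫ tT) cC) M) :=
  asIso (KFlatLib.pullθ (vmap (k := k) u) F (pb prC M)) ≪≫
    (CurvLib.tensorLeft' (pb (vmap (k := k) u) F)).mapIso
      ((Scheme.Modules.pullbackComp (vmap (k := k) u) prC).app M ≪≫
        (Scheme.Modules.pullbackCongr ((pullback.lift_snd _ _ _).trans (Category.comp_id _))).app M)

theorem twistIso_natural (F : (pullback tT cC).Modules) {M N : C.Modules} (a : M ⟶ N) :
    (twistIso u F M).hom ≫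
        (CurvLib.tensorLeft' (pb (vmap (k := k) u) F)).map ((Scheme.Modules.pullback (pullback.snd (u ≫ tT) cC)).map a) =
      (Scheme.Modules.pullback (vmap (k := k) u)).map
          ((CurvLib.tensorLeft' F).map ((Scheme.Modules.pullback prC).map a)) ≫ (twistIso u F N).hom := by
  let e := Scheme.Modules.pullbackComp (vmap (k := k) u) prC ≪≫
    Scheme.Modules.pullbackCongr ((pullback.lift_snd _ _ _).trans (Category.comp_id _) :
      vmap (k := k) u ≫ prC = pullback.snd (u ≫ tT) cC)
  have h1 := e.hom.naturality a
  have h2 := KFlatLib.pullθ_natural_right (vmap (k := k) u) F ((Scheme.Modules.pullback prC).map a)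
  change (KFlatLib.pullθ _ F _ ≫ (CurvLib.tensorLeft' _).map (e.hom.app M)) ≫ _ =
    _ ≫ KFlatLib.pullθ _ F _ ≫ (CurvLib.tensorLeft' _).map (e.hom.app N)
  rw [Category.assoc, ← Functor.map_comp]
  erw [← h1]
  rw [Functor.map_comp]
  erw [← reassoc_of% h2]

/-- The supported term commutes with any base change. -/
theorem isIso_bc_supported {F : (pullback tT cC).Modules} (hF : FlatMod.IsFinLocFree F)
    (D : C.IdealSheafData) [IsFinite (D.subschemeι ≫ cC)] :
    IsIso (bc (isPullback_vmap (k := k) (C := C) u).w (CohB1.tensorMod F (pb prC (ClSub.quotMod D)))) := by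
  haveI : Coh.IsQCoh (Coh.structureModule D.subscheme) := QCohLib.isQCoh_unit
  let K := Coh.structureModule D.subscheme
  let i := pullback.fst prC D.subschemeι
  let g := pullback.snd prC D.subschemeι
  have H : IsPullback g i D.subschemeι prC := (IsPullback.of_hasPullback prC D.subschemeι).flip
  have H2 : IsPullback g (i ≫ prT) (D.subschemeι ≫ cC) tT := H.paste_vert (IsPullback.of_hasPullback tT cC).flip
  haveI : IsAffineHom (i ≫ prT) := MorphismProperty.of_isPullback H2 inferInstance
  haveI : Coh.IsQCoh F := (LocSuppLib.isCoh_of_isFinLocFree hF).1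
  haveI := KFlatLib.isQCoh_pullback i F
  haveI := KFlatLib.isQCoh_pullback g K
  let G := CohB1.tensorMod (pb g K) (pb i F)
  haveI : Coh.IsQCoh G := (Groth.Agent.S2297.result (pb g K) (pb i F)).1
  haveI : Coh.IsQCoh (pf D.subschemeι K) := QCohLib.isQCoh_pushforward D.subschemeι K
  haveI := isIso_bc_affine H K
  let e : CohB1.tensorMod F (pb prC (pf D.subschemeι K)) ≅ pf i G :=
    (CurvLib.tensorLeft' F).mapIso (asIso (bc H.w K)) ≪≫ HilbPolyLib.swapIso _ _ ≪≫
      asIso (ProjClosedImmLib.projR i (pb g K) F)
  haveI := isIso_bc_pushforward (isPullback_vmap (k := k) (C := C) u)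
    (IsPullback.of_hasPullback i (vmap (k := k) u)) G
  exact IsIso.of_isIso_fac_right (bc_natural (isPullback_vmap (k := k) (C := C) u).w e.hom).symm

theorem epi_map_iff {A : Type*} [Category A] {B : Type*} [Category B] (P : A ⥤ B) {a b a' b' : A}
    (e₁ : a ≅ a') (e₂ : b ≅ b') (f : a ⟶ b) (f' : a' ⟶ b') (w : e₁.hom ≫ f' = f ≫ e₂.hom) :
    Epi (P.map f') ↔ Epi (P.map f) := by
  have h : P.map f' = P.map e₁.inv ≫ P.map f ≫ P.map e₂.hom := by
    rw [← P.map_comp, ← P.map_comp, ← w, e₁.inv_hom_id_assoc]
  rw [h]
  constructor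
  · intro h'
    exact (epi_comp_iff_of_isIso _ _).1 ((epi_comp_iff_of_epi (P.map e₁.inv) _).1 h')
  · intro h'; infer_instance

end FreeSecBCLib
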